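import Groth.Agent.Sga7.H109.Basic

/-!
# Torsion points and quotients of commutative algebraic groups
-/

set_option autoImplicit false

universe u

open CategoryTheory MonoidalCategory CartesianMonoidalCategory MonObj GrpObj AlgebraicGeometry Limits

namespace Groth.Agent.Sga7.H109.Torsion

open Books.AlgPts Books.AlgPtsGrp Sga3.H794.ChevKer Sga3.H794.ChevAff Sga3.H794.FinPts Basic

variable {K : Type u} [Field K] [IsAlgClosed K]

/-- Rational points lift along surjective morphisms. -/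
theorem exists_pt_lift {G H : Over (Spec (CommRingCat.of K))} [LocallyOfFiniteType G.hom]
    [LocallyOfFiniteType H.hom] (q : G ⟶ H) [Surjective q.left] (y : KP H) : ∃ x : KP G, x ≫ q = y :=
  exists_comp_eq_of_pt_mem_range q y (q.left.surjective _)

/-- The rational points of a smooth connected commutative group are divisible by the integers invertible
in the field. -/
theorem exists_pow_eq (G : Over (Spec (CommRingCat.of K))) [GrpObj G] [IsCommMonObj G] [Smooth G.hom]
    [QuasiCompact G.hom] [ConnectedSpace G.left] (n : ℕ) (hn : (n : K) ≠ 0) (x : KP G) :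
    ∃ y : KP G, y ^ n = x := by
  have hn' : ((n : ℤ) : K) ≠ 0 := by simpa using hn
  have h1 : Etale (𝟙 G ^ (n : ℤ)).left := Grpsch.AbEtale.etale_zpow_of_isAlgClosed hn'
  have h2 : IsMonHom (𝟙 G ^ (n : ℤ)) := Grpsch.AbEtale.isMonHom_zpow (n : ℤ)
  have h3 : Surjective (𝟙 G ^ (n : ℤ)).left :=
    surjective_of_isOpen_range _ (𝟙 G ^ (n : ℤ)).left.isOpenMap.isOpen_range
  obtain ⟨y, hy⟩ := exists_pt_lift (𝟙 G ^ (n : ℤ)) x
  refine ⟨y, ?_⟩
  rw [← hy, GrpObj.comp_zpow, Category.comp_id, zpow_natCast]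

/-- If a closed subgroup `H` of a smooth connected commutative group `G` contains the `ℓ`-power torsion
points of `G`, the `ℓ`-power torsion of `G / H` is bounded. -/
theorem exists_bound {H G Q : Over (Spec (CommRingCat.of K))} [GrpObj H] [GrpObj G] [GrpObj Q]
    [IsCommMonObj G] [LocallyOfFiniteType G.hom] [LocallyOfFiniteType H.hom] [QuasiCompact H.hom]
    [LocallyOfFiniteType Q.hom] (i : H ⟶ G) [IsMonHom i] [Mono i] (q : G ⟶ Q) [IsMonHom q] [Surjective q.left]
    (hK : AlgGrp.IsKernel i q) (l : ℕ) (hl : (l : K) ≠ 0)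
    (htor : ∀ (n : ℕ) (x : KP G), x ^ (l ^ n) = 1 → ∃ y : KP H, y ≫ i = x) :
    ∃ B : ℕ, ∀ (n : ℕ) (s : Finset (KP Q)), (∀ x ∈ s, x ^ (l ^ n) = 1) → s.card ≤ B := by
  classical
  obtain ⟨U, _, u, hu1, hu2, hu3, hu4, hu5⟩ := Sga3B.RedIdComp.exists_redIdComp H
  have hUG : IsClosedImmersion u.left := hu2
  have hUm : Mono u := mono_of_isClosedImmersion u
  have hUc : IsCommMonObj U := by
    refine ⟨?_⟩
    rw [← cancel_mono (u ≫ i), Category.assoc, IsMonHom.mul_hom, ← Category.assoc,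
      ← BraidedCategory.braiding_naturality, Category.assoc, IsCommMonObj.mul_comm]
  have hUqc : QuasiCompact U.hom := by rw [← Over.w u]; infer_instance
  have hfin := finite_connectedComponents (N := H)
  have hfin' : Fintype (ConnectedComponents H.left) := Fintype.ofFinite _
  refine ⟨Fintype.card (ConnectedComponents H.left), fun n s hs => ?_⟩
  -- choose lifts
  have hlift : ∀ y : KP Q, ∃ x : KP G, x ≫ q = y := exists_pt_lift q
  choose x hx using hlift
  have hker : ∀ y : KP Q, y ^ (l ^ n) = 1 → ∃ h : KP H, h ≫ i = x y ^ (l ^ n) := by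
    intro y hy
    refine exists_lift_ker hK _ ?_
    rw [MonObj.pow_comp, hx, hy]
  let h : KP Q → KP H := fun y => if hy : y ^ (l ^ n) = 1 then (hker y hy).choose else 1
  have hh : ∀ y : KP Q, y ^ (l ^ n) = 1 → h y ≫ i = x y ^ (l ^ n) := by
    intro y hy
    simp only [h, hy, dite_true]
    exact (hker y hy).choose_spec
  refine Finset.card_le_card_of_injOn (t := Finset.univ)
    (fun y => (pt (h y) : ConnectedComponents H.left)) (fun _ _ => Finset.mem_univ _) ?_
  intro y hy y' hy' hyy'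
  have hy1 : y ^ (l ^ n) = 1 := hs y hy
  have hy1' : y' ^ (l ^ n) = 1 := hs y' hy'
  have h1 : pt (h y * (h y')⁻¹) ∈ connectedComponent (pt η[H]) :=
    mem_connectedComponent_of_eq _ _ (ConnectedComponents.coe_eq_coe.mp hyy')
  rw [← hu5] at h1
  obtain ⟨w, hw⟩ := exists_comp_eq_of_pt_mem_range u _ h1
  obtain ⟨w', hw'⟩ := exists_pow_eq U (l ^ n) (by push_cast; exact pow_ne_zero _ hl) w
  -- `x y * (x y')⁻¹ * (w' ≫ u ≫ i)⁻¹` is torsion
  have h2 : (x y * (x y')⁻¹ * (w' ≫ u ≫ i)⁻¹) ^ (l ^ n) = 1 := by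
    rw [mul_pow, mul_pow, inv_pow, inv_pow, ← hh y hy1, ← hh y' hy1', ← MonObj.pow_comp, hw',
      ← Category.assoc, hw, MonObj.mul_comp, GrpObj.inv_comp, mul_inv_cancel]
  obtain ⟨z, hz⟩ := htor n _ h2
  have h3 : x y * (x y')⁻¹ = (z * (w' ≫ u)) ≫ i := by
    rw [MonObj.mul_comp, hz, Category.assoc, inv_mul_cancel_right]
  have h4 : (x y * (x y')⁻¹) ≫ q = 1 := by
    rw [h3, ker_comp hK]
  rw [MonObj.mul_comp, GrpObj.inv_comp, hx, hx] at h4
  exact mul_inv_eq_one.mp h4

end Groth.Agent.Sga7.H109.Torsion
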