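import Groth.Prelude.Def_SGA7IX
import Groth.Agent.Sga3.H794.ChevAff
import Groth.Agent.Grpsch.AbEtale
import Groth.Agent.Books.AntiAffine
import Groth.Agent.S3034

/-!
# Commutative algebraic groups over an algebraically closed field: basic facts on rational points
-/

set_option autoImplicit false

universe u

open CategoryTheory MonoidalCategory CartesianMonoidalCategory MonObj GrpObj AlgebraicGeometry Limits

namespace Groth.Agent.Sga7.H109.Basic

open Books.AlgPts Books.AlgPtsGrp Sga3.H794.ChevKer Sga3.H794.ChevAff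

/-- The group of rational points. -/
abbrev KP {K : Type u} [Field K] (G : Over (Spec (CommRingCat.of K))) := 𝟙_ (Over (Spec (CommRingCat.of K))) ⟶ G

/-- `G` contains no closed subgroup isomorphic to `𝔾_a`. -/
def NoGa {K : Type u} [Field K] (G : Over (Spec (CommRingCat.of K))) [GrpObj G] : Prop :=
  ∀ j : Red.Ga (Spec (CommRingCat.of K)) ⟶ G, IsMonHom j → IsClosedImmersion j.left → False

theorem NoGa.of_closedImmersion {K : Type u} [Field K] {G H : Over (Spec (CommRingCat.of K))} [GrpObj G]
    [GrpObj H] (hG : NoGa G) (i : H ⟶ G) [IsMonHom i] [IsClosedImmersion i.left] : NoGa H := by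
  intro j h1 h2
  exact hG (j ≫ i) inferInstance (by rw [Over.comp_left]; infer_instance)

section cat

variable {C : Type*} [Category C] [CartesianMonoidalCategory C] [HasPullbacks C]

/-- The preimage of a subgroup. -/
theorem exists_preimage {G L H : C} [GrpObj G] [GrpObj L] [GrpObj H] (q : G ⟶ H) (j : L ⟶ H) [IsMonHom q]
    [IsMonHom j] [Mono j] : ∃ (N : C) (_ : GrpObj N) (a : N ⟶ G) (b : N ⟶ L), IsMonHom a ∧ IsMonHom b ∧
      IsPullback a b q j := by
  have hp : IsPullback (pullback.fst q j) (pullback.snd q j) q j := IsPullback.of_hasPullback q j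
  obtain ⟨inst, hm⟩ := Sga3C.SubGrp.exists_grpObj_of_mono (pullback.fst q j)
    (by
      let m : pullback q j ⊗ pullback q j ⟶ pullback q j := pullback.lift
        ((pullback.fst q j ⊗ₘ pullback.fst q j) ≫ μ[G]) ((pullback.snd q j ⊗ₘ pullback.snd q j) ≫ μ[L])
        (by
          rw [Category.assoc, Category.assoc, IsMonHom.mul_hom, IsMonHom.mul_hom,
            tensorHom_comp_tensorHom_assoc, tensorHom_comp_tensorHom_assoc, hp.w])
      exact ⟨m, pullback.lift_fst _ _ _⟩)
    (by
      exact ⟨pullback.lift η[G] η[L] (by rw [IsMonHom.one_hom, IsMonHom.one_hom]),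
        pullback.lift_fst _ _ _⟩)
    (by
      refine ⟨pullback.lift (pullback.fst q j ≫ ι[G]) (pullback.snd q j ≫ ι[L]) ?_,
        pullback.lift_fst _ _ _⟩
      rw [Category.assoc, Category.assoc, GrpObj.inv_hom, GrpObj.inv_hom, ← Category.assoc,
        hp.w, Category.assoc])
  refine ⟨pullback q j, inst, pullback.fst q j, pullback.snd q j, hm, ?_, hp⟩
  have : IsMonHom (pullback.snd q j ≫ j) := by
    rw [← hp.w]
    infer_instance
  exact Sga3C.SubGrp.isMonHom_of_comp_mono (pullback.snd q j) j

end cat

section hom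

variable {K : Type u} [Field K]

theorem isSeparated_hom (G : Over (Spec (CommRingCat.of K))) [GrpObj G] : IsSeparated G.hom :=
  Groth.Agent.Books.AntiAffine.isSeparated_hom G

/-- The image of a homomorphism of algebraic groups. -/
theorem exists_image {G H : Over (Spec (CommRingCat.of K))} [GrpObj G] [GrpObj H]
    [LocallyOfFiniteType G.hom] [LocallyOfFiniteType H.hom] [QuasiCompact G.hom] (f : G ⟶ H) [IsMonHom f] :
    ∃ (C : Over (Spec (CommRingCat.of K))) (_ : GrpObj C) (p : G ⟶ C) (i : C ⟶ H), IsMonHom p ∧ IsMonHom i ∧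
      p ≫ i = f ∧ Flat p.left ∧ Surjective p.left ∧ LocallyOfFinitePresentation p.left ∧
      IsClosedImmersion i.left := by
  have hs : IsSeparated H.hom := isSeparated_hom H
  have hq : QuasiCompact f.left := quasiCompact_left f
  refine S3034.result K G H f ?_
  let e : Spec (CommRingCat.of K) ⟶ H.left := (η[H] : 𝟙_ (Over (Spec (CommRingCat.of K))) ⟶ H).left
  exact (inferInstance : Flat (Limits.pullback.snd f.left e))

end hom

variable {K : Type u} [Field K]

/-- A homomorphism with open image to a connected algebraic group is surjective. -/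
theorem surjective_of_isOpen_range {G H : Over (Spec (CommRingCat.of K))} [GrpObj G] [GrpObj H]
    [LocallyOfFiniteType G.hom] [LocallyOfFiniteType H.hom] [QuasiCompact G.hom] [ConnectedSpace H.left]
    (f : G ⟶ H) [IsMonHom f] (h : IsOpen (Set.range f.left)) : Surjective f.left := by
  obtain ⟨C, _, p, i, _, _, hpi, _, hp, _, hi⟩ := exists_image f
  have h1 : Set.range f.left = Set.range i.left := by
    rw [← hpi, Over.comp_left, Scheme.Hom.comp_base, TopCat.coe_comp, Set.range_comp,
      Set.range_eq_univ.mpr hp.surj, Set.image_univ]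
  have h2 : IsClopen (Set.range f.left) := ⟨h1 ▸ i.left.isClosedEmbedding.isClosed_range, h⟩
  have h3 : (Set.range f.left).Nonempty := ⟨_, ⟨pt (1 : KP G), rfl⟩⟩
  rcases isClopen_iff.mp h2 with h4 | h4
  · exact absurd h4 h3.ne_empty
  · exact ⟨Set.range_eq_univ.mp h4⟩

end Groth.Agent.Sga7.H109.Basic
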