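import Groth.Agent.Sga3B.GaPts
import Groth.Agent.Sga3B.RG.GaHom
import Groth.Agent.Sga3B.RG.BrDiag

/-!
# Homomorphisms from a split torus to the additive group are trivial
-/

set_option autoImplicit false

universe u

open CategoryTheory MonoidalCategory CartesianMonoidalCategory MonObj GrpObj AlgebraicGeometry Limits
open Groth.Agent.Books.AffBridge Groth.Agent.Books.AffBridge2

namespace Groth.Agent.Sga7.H109.TorusGa

open Sga3B Sga3B.RG Sga3B.RG.BrPts

variable {K : Type u} [Field K] [IsAlgClosed K]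

omit [IsAlgClosed K] in
theorem specMap_mul_comp {A : Type u} [CommRing A] [HopfAlgebra K A] {L : Over (Spec (CommRingCat.of K))}
    [GrpObj L] (c : SpecOver K A ⟶ L) [IsMonHom c] (g h : Pt K A) :
    specMap K (g * h).ofConv ≫ c = (specMap K g.ofConv ≫ c) * (specMap K h.ofConv ≫ c) := by
  rw [specMap_mul, MonObj.mul_comp]

/-- Homomorphisms to `𝔾_a` from an affine group all of whose rational points lie in tori. -/
theorem eq_one_of_tori {A : Type u} [CommRing A] [HopfAlgebra K A] [Algebra.FiniteType K A] [IsDomain A]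
    (htor : ∀ g : Pt K A, ∃ T : Subgroup (Pt K A), IsTorusSub T ∧ g ∈ T)
    (c : SpecOver K A ⟶ Red.Ga (Spec (CommRingCat.of K))) [IsMonHom c] : c = 1 := by
  let y : A := (Scheme.ΓSpecIso (CommRingCat.of A)).hom (Red.gaFn c)
  have key : ∀ g : Pt K A, g y = (Scheme.ΓSpecIso (CommRingCat.of K)).hom
      (Red.gaFn (specMap K g.ofConv ≫ c)) := by
    intro g
    rw [GaPts.gaFn_comp]
    have h2 := congr($(Scheme.ΓSpecIso_naturality (CommRingCat.ofHom g.ofConv.toRingHom)) (Red.gaFn c))
    exact h2.symm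
  have hadd : ∀ g h : Pt K A, (g * h) y = g y + h y := by
    intro g h
    have h1 : specMap K (g * h).ofConv ≫ c = (specMap K g.ofConv ≫ c) * (specMap K h.ofConv ≫ c) :=
      specMap_mul_comp c g h
    have h2 := congrArg Red.gaFn h1
    rw [GaPts.gaFn_mul] at h2
    rw [key, key, key]
    refine (congrArg (Scheme.ΓSpecIso (CommRingCat.of K)).hom h2).trans ?_
    exact map_add (Scheme.ΓSpecIso (CommRingCat.of K)).hom.hom _ _
  have hy : y = 0 := by
    refine eq_zero_of_forall_pt (K := K) fun g => ?_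
    obtain ⟨T, hT, hg⟩ := htor g
    exact GaHom.apply_of_mem_torus hadd hT hg
  apply GaPts.gaFn_injective
  rw [GaPts.gaFn_one]
  have h3 : (Scheme.ΓSpecIso (CommRingCat.of A)).inv y = Red.gaFn c := by
    simp [y]
  rw [← h3, hy]
  exact map_zero (Scheme.ΓSpecIso (CommRingCat.of A)).inv.hom

omit [IsAlgClosed K] in
/-- All rational points of a split torus lie in a torus. -/
theorem isTorusSub_top (r : ℕ) :
    IsTorusSub (⊤ : Subgroup (Pt K (MonoidAlgebra K (Multiplicative (Fin r → ℤ))))) := by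
  refine ⟨r, BialgHom.id K _, fun x => ⟨x, rfl⟩, ?_⟩
  rw [eq_comm, eq_top_iff]
  intro x _
  exact ⟨x, rfl⟩

/-- **Homomorphisms from a split torus to `𝔾_a` are trivial.** -/
theorem hom_ga_eq_one {E : Over (Spec (CommRingCat.of K))} [GrpObj E] {r : ℕ}
    (hE : Red.IsSplitTorusWith (Fin r → ℤ) E) (f : E ⟶ Red.Ga (Spec (CommRingCat.of K))) [IsMonHom f] :
    f = 1 := by
  obtain ⟨e, he⟩ := BrDiag.isSplitTorusWith_iff.1 hE
  have hei : IsMonHom e.inv := inferInstance
  have h1 : e.inv ≫ f = 1 := eq_one_of_tori (fun g => ⟨⊤, isTorusSub_top r, trivial⟩) (e.inv ≫ f)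
  rw [← cancel_epi e.inv, h1, MonObj.comp_one]

end Groth.Agent.Sga7.H109.TorusGa
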